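import Groth.Agent.P1Inertia.Dual
import Groth.Prelude.Def_Pi1
import Mathlib.RingTheory.Invariant.Basic
import Mathlib.RingTheory.Ideal.Over

/-! The invariants of an inertia group are étale over the invariants of the whole group. -/

universe u

open scoped Pointwise

set_option linter.style.haveILetI false

namespace Groth.Agent.P1Inertia

variable {G R : Type u} [Group G] [CommRing R] [MulSemiringAction G R]

/-- An element moving no invariant of the inertia group modulo `q` is in the inertia group. -/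
theorem mem_inertia_of_forall_sub_mem [Finite G] (q : Ideal R) [q.IsPrime] (τ : G)
    (h : ∀ x : FixedPoints.subring R (q.inertia G), τ • (x : R) - x ∈ q) : τ ∈ q.inertia G := by
  let H := q.inertia G
  let M := FixedPoints.subring R H
  haveI : Algebra.IsInvariant M R H := ⟨fun b hb => ⟨⟨b, hb⟩, rfl⟩⟩
  have hun : ∀ Q : Ideal R, Q = τ⁻¹ • q → Q.under M = q.under M := fun Q hQ => by
    ext x
    show (x : R) ∈ Q ↔ (x : R) ∈ q
    rw [hQ, Ideal.mem_inv_pointwise_smul_iff]
    exact ⟨fun hx => by simpa using q.sub_mem hx (h x), fun hx => by simpa using q.add_mem (h x) hx⟩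
  haveI : (τ⁻¹ • q).IsPrime := ‹q.IsPrime›.smul τ⁻¹
  obtain ⟨g, hg⟩ := Algebra.IsInvariant.exists_smul_of_under_eq M R H q (τ⁻¹ • q) (hun _ rfl).symm
  have hfix : g • q = q := (g : H).2 |> Ideal.inertia_le_stabilizer q
  replace hg : τ⁻¹ • q = q := hg.trans hfix
  have hτ : τ • q = q := by
    conv_lhs => rw [← hg, smul_inv_smul]
  let P := q.under M
  let e : (R ⧸ q) ≃+* (R ⧸ q) :=
    Ideal.quotientEquiv q q (MulSemiringAction.toRingEquiv G R τ) (by
      exact hτ.symm)
  have he : ∀ z, e (algebraMap (M ⧸ P) (R ⧸ q) z) = algebraMap (M ⧸ P) (R ⧸ q) z := fun z => by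
    obtain ⟨x, rfl⟩ := Ideal.Quotient.mk_surjective z
    exact Ideal.Quotient.eq.2 (h x)
  obtain ⟨σ, hσ⟩ := Ideal.Quotient.stabilizerHom_surjective H P q (AlgEquiv.ofRingEquiv (f := e) he)
  intro r
  have h1 := DFunLike.congr_fun hσ (Ideal.Quotient.mk q r)
  have h2 : ((σ : H) : G) • r - r ∈ q := (σ : H).2 r
  have h3 := Ideal.Quotient.eq.1 h1
  show τ • r - r ∈ q
  have : ((σ : H) : G) • r - τ • r ∈ q := h3
  simpa using q.sub_mem h2 this

section

variable (H : Subgroup G)

/-- The algebra of functions on the group spanned by the orbit functions of invariants. -/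
noncomputable def orb : Subalgebra (FixedPoints.subring R H) (G → R) :=
  Algebra.adjoin _ (Set.range fun (b : FixedPoints.subring R H) (g : G) => g • (b : R))

theorem exists_sum_of_mem_orb {F : G → R} (hF : F ∈ orb H) :
    ∃ (l : ℕ) (a b : Fin l → FixedPoints.subring R H),
      ∀ g, F g = ∑ k, (a k : R) * g • (b k : R) := by
  let ev : FixedPoints.subring R H →* (G → R) :=
    { toFun := fun b g => g • (b : R)
      map_one' := funext fun g => smul_one g
      map_mul' := fun x y => funext fun g => smul_mul' g (x : R) y }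
  have h : F ∈ Submodule.span (FixedPoints.subring R H) (Set.range ev) := by
    have : F ∈ (Algebra.adjoin (FixedPoints.subring R H) (Set.range ev)).toSubmodule := hF
    rw [Algebra.adjoin_eq_span, show Submonoid.closure (Set.range ev) = MonoidHom.mrange ev from
      Submonoid.closure_eq (MonoidHom.mrange ev)] at this
    exact this
  obtain ⟨l, a, f, hsum⟩ := Submodule.mem_span_set'.mp h
  choose b hb using fun k => (f k).2
  refine ⟨l, a, b, fun g => ?_⟩
  rw [← hsum, Finset.sum_apply]
  refine Finset.sum_congr rfl fun k _ => ?_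
  rw [Pi.smul_apply, ← hb k]
  rfl

/-- The relative trace along the cosets of `H`. -/
noncomputable def tr [Fintype (G ⧸ H)] :
    FixedPoints.subring R H →ₗ[FixedPoints.subring R G] FixedPoints.subring R G where
  toFun m := ⟨∑ c : G ⧸ H, c.out • (m : R), fun g => by
    rw [Finset.smul_sum]
    refine Fintype.sum_equiv (MulAction.toPerm g) _ _ fun c => ?_
    obtain ⟨h, hh⟩ := QuotientGroup.mk_out_eq_mul H (g * c.out)
    have : (g • c : G ⧸ H) = QuotientGroup.mk (g * c.out) := by
      conv_lhs => rw [← QuotientGroup.out_eq' c]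
      rfl
    rw [MulAction.toPerm_apply, this, hh, mul_smul (g * c.out), show (h : G) • (m : R) = m from m.2 h,
      mul_smul]⟩
  map_add' x y := Subtype.ext (by simp [smul_add, Finset.sum_add_distrib])
  map_smul' a m := Subtype.ext (by
    show ∑ c : G ⧸ H, c.out • ((a : R) * (m : R)) = (a : R) * ∑ c : G ⧸ H, c.out • (m : R)
    simp only [smul_mul', Finset.mul_sum]
    exact Finset.sum_congr rfl fun c _ => by rw [a.2 c.out])

end

theorem exists_etale_away [Finite G] (q : Ideal R) [q.IsPrime] :
    ∃ g : FixedPoints.subring R (q.inertia G),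
      g ∉ q.comap (FixedPoints.subring R (q.inertia G)).subtype ∧
      Algebra.Etale (FixedPoints.subring R G) (Localization.Away g) := by
  classical
  have := Fintype.ofFinite G
  let H := q.inertia G
  let M := FixedPoints.subring R H
  let A := FixedPoints.subring R G
  have hsep : ∀ τ : G, τ ∉ H → ∃ x : M, τ • (x : R) - x ∉ q := fun τ hτ => by
    by_contra hc
    push Not at hc
    exact hτ (mem_inertia_of_forall_sub_mem q τ hc)
  choose x hx using hsep
  let F : {τ : G // τ ∉ H} → G → R := fun τ g =>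
    ∏ h : H, (g • (x τ.1 τ.2 : R) - ((h : G) * τ.1) • (x τ.1 τ.2 : R))
  let Φ : G → R := ∏ τ, F τ
  -- `Φ` lies in the span of orbit functions of invariants
  have hΦ : Φ ∈ orb H := by
    refine Subalgebra.prod_mem _ fun τ _ => ?_
    let P : Polynomial R := ∏ h : H, (Polynomial.X - Polynomial.C (((h : G) * τ.1) • (x τ.1 τ.2 : R)))
    have hc : ∀ n, P.coeff n ∈ M := fun n h₀ => by
      have : h₀ • P = P := by
        rw [Finset.smul_prod']
        refine Fintype.prod_equiv (Equiv.mulLeft h₀) _ _ fun h => ?_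
        rw [smul_sub, Polynomial.smul_X, Polynomial.smul_C]
        simp [Subgroup.smul_def, mul_smul]
      conv_rhs => rw [← this]
      rw [Polynomial.coeff_smul]
    have hF : F τ = ∑ n ∈ Finset.range (P.natDegree + 1),
        (⟨P.coeff n, hc n⟩ : M) • (fun g : G => g • (x τ.1 τ.2 : R)) ^ n := by
      funext g
      show ∏ h : H, (g • (x τ.1 τ.2 : R) - ((h : G) * τ.1) • (x τ.1 τ.2 : R)) = _
      rw [Finset.sum_apply]
      rw [show ∏ h : H, (g • (x τ.1 τ.2 : R) - ((h : G) * τ.1) • (x τ.1 τ.2 : R)) =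
        P.eval (g • (x τ.1 τ.2 : R)) by simp [P, Polynomial.eval_prod], Polynomial.eval_eq_sum_range]
      rfl
    rw [hF]
    exact Subalgebra.sum_mem _ fun n _ => Subalgebra.smul_mem _
      (Subalgebra.pow_mem _ (Algebra.subset_adjoin (Set.mem_range_self (x τ.1 τ.2))) n) _
  obtain ⟨l, a, b, hab⟩ := exists_sum_of_mem_orb H hΦ
  have hzero : ∀ g, g ∉ H → Φ g = 0 := fun g hg => by
    show (∏ τ, F τ) g = 0
    rw [Finset.prod_apply]
    exact Finset.prod_eq_zero (Finset.mem_univ ⟨g, hg⟩)
      (Finset.prod_eq_zero (Finset.mem_univ 1) (by simp))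
  let u : M := ∑ k, a k * b k
  have hu : ∀ g, g ∈ H → Φ g = u := fun g hg => by
    rw [hab]
    show _ = ((∑ k, a k * b k : M) : R)
    simp only [AddSubmonoidClass.coe_finsetSum, MulMemClass.coe_mul]
    exact Finset.sum_congr rfl fun k _ => congrArg _ ((b k).2 ⟨g, hg⟩)
  have huq : (u : R) ∉ q := by
    rw [← hu 1 H.one_mem]
    show (∏ τ, F τ) 1 ∉ q
    rw [Finset.prod_apply, ‹q.IsPrime›.prod_mem_iff]
    rintro ⟨τ, -, hτ⟩
    obtain ⟨h, -, hh⟩ := (‹q.IsPrime›.prod_mem_iff).1 hτ
    apply hx τ.1 τ.2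
    have h2 : (h : G) • (τ.1 • (x τ.1 τ.2 : R)) - τ.1 • (x τ.1 τ.2 : R) ∈ q := h.2 _
    rw [one_smul, mul_smul] at hh
    simpa using q.sub_mem (q.neg_mem h2) hh
  have := Fintype.ofFinite (G ⧸ H)
  let t : Fin l → M →ₗ[A] A := fun k => (tr H).comp (LinearMap.mulRight A (a k))
  -- the fundamental identity
  have hkey : ∀ g : G, ∑ k, (g • (a k : R)) * (b k : R) = if g ∈ H then (u : R) else 0 := fun g => by
    have h1 : ∑ k, (g • (a k : R)) * (b k : R) = g • Φ g⁻¹ := by
      rw [hab, Finset.smul_sum]
      exact Finset.sum_congr rfl fun k _ => by rw [smul_mul', smul_inv_smul]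
    rw [h1]
    by_cases hg : g ∈ H
    · rw [if_pos hg, hu _ (H.inv_mem hg)]
      exact u.2 ⟨g, hg⟩
    · rw [if_neg hg, hzero _ fun h => hg (inv_inv g ▸ H.inv_mem h), smul_zero]
  have hout : ∀ c : G ⧸ H, c.out ∈ H ↔ c = (QuotientGroup.mk 1 : G ⧸ H) := fun c => by
    conv_rhs => rw [← QuotientGroup.out_eq' c, QuotientGroup.eq, mul_one, H.inv_mem_iff]
  have hdual' : ∀ m : M, ∀ k, ((t k m : A) : R) = ∑ c : G ⧸ H, c.out • ((m : R) * a k) :=
    fun m k => rfl
  have hdual : ∀ m : M, u * m = ∑ k, t k m • b k := fun m => by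
    apply Subtype.ext
    simp only [AddSubmonoidClass.coe_finsetSum, MulMemClass.coe_mul]
    show (u : R) * m = ∑ k, ((t k m : A) : R) * (b k : R)
    simp only [hdual', Finset.sum_mul]
    rw [Finset.sum_comm, Finset.sum_eq_single (QuotientGroup.mk 1 : G ⧸ H)]
    · simp only [smul_mul', mul_assoc, ← Finset.mul_sum, hkey, if_pos ((hout _).2 rfl)]
      rw [show (QuotientGroup.mk 1 : G ⧸ H).out • (m : R) = m from m.2 ⟨_, (hout _).2 rfl⟩, mul_comm]
    · intro c _ hc
      simp only [smul_mul', mul_assoc, ← Finset.mul_sum, hkey, if_neg (fun h => hc ((hout c).1 h)), mul_zero]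
    · exact fun h => absurd (Finset.mem_univ _) h
  refine ⟨u, huq, etale_away_of_dual b t u hdual fun D m => ?_⟩
  -- `m ⊗ 1 - 1 ⊗ m` is killed by the separating element
  have hvan : ∀ g : G, ∑ k, (((m * a k : M) : R) * g • (b k : R) - (a k : R) * g • ((m * b k : M) : R)) = 0 :=
    fun g => by
    simp only [MulMemClass.coe_mul, smul_mul']
    calc ∑ k, ((m : R) * a k * g • (b k : R) - (a k : R) * (g • (m : R) * g • (b k : R)))
        = ((m : R) - g • (m : R)) * Φ g := by
          rw [hab, Finset.mul_sum]; exact Finset.sum_congr rfl fun k _ => by ring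
      _ = 0 := by
          by_cases hg : g ∈ H
          · rw [show g • (m : R) = m from m.2 ⟨g, hg⟩, sub_self, zero_mul]
          · rw [hzero g hg, mul_zero]
  have hP : ∀ j, ∑ k, (t j (b k) • (m * a k) - t j (m * b k) • a k) = 0 := fun j => by
    apply Subtype.ext
    simp only [AddSubmonoidClass.coe_finsetSum, AddSubgroupClass.coe_sub, ZeroMemClass.coe_zero]
    show ∑ k, (((t j (b k) : A) : R) * ((m * a k : M) : R) - ((t j (m * b k) : A) : R) * (a k : R)) = 0
    simp only [hdual', Finset.sum_mul, ← Finset.sum_sub_distrib]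
    rw [Finset.sum_comm]
    refine Finset.sum_eq_zero fun c _ => ?_
    calc _ = (c.out • (a j : R)) *
          ∑ k, (((m * a k : M) : R) * c.out • (b k : R) - (a k : R) * c.out • ((m * b k : M) : R)) := by
            rw [Finset.mul_sum]
            exact Finset.sum_congr rfl fun k _ => by simp only [smul_mul']; ring
      _ = 0 := by rw [hvan, mul_zero]
  have h1 : ∑ k, ((m * a k) • D (u * b k) - a k • D (u * (m * b k))) = 0 := by
    simp only [hdual, map_sum, Derivation.map_smul, Finset.smul_sum, ← Finset.sum_sub_distrib]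
    rw [Finset.sum_comm]
    refine Finset.sum_eq_zero fun j _ => ?_
    calc _ = (∑ k, (t j (b k) • (m * a k) - t j (m * b k) • a k)) • D (b j) := by
          rw [Finset.sum_smul]
          exact Finset.sum_congr rfl fun k _ => by
            rw [sub_smul, smul_comm, smul_comm (a k), smul_assoc, smul_assoc]
      _ = 0 := by rw [hP, zero_smul]
  have h2 : ∀ k, (m * a k) • D (u * b k) - a k • D (u * (m * b k)) = -((a k * b k * u) • D m) := fun k => by
    rw [show u * (m * b k) = m * (u * b k) by ring, D.leibniz m (u * b k), smul_add, smul_smul, smul_smul,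
      show a k * (u * b k) = a k * b k * u by ring, mul_comm m]
    abel
  simp only [h2, Finset.sum_neg_distrib, ← Finset.sum_smul, ← Finset.sum_mul, neg_eq_zero] at h1
  rw [pow_two]
  exact h1

end Groth.Agent.P1Inertia
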