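import Mathlib.RingTheory.Etale.Basic
import Mathlib.RingTheory.Flat.EquationalCriterion
import Mathlib.RingTheory.Smooth.Fiber
import Mathlib.RingTheory.Kaehler.Basic
import Mathlib.RingTheory.FinitePresentation
import Mathlib.RingTheory.Localization.Away.Basic

/-! An algebra with a dual basis up to `u` and vanishing derivations is étale away from `u`. -/

universe u

open MvPolynomial

namespace Groth.Agent.P1Inertia

variable {A M : Type u} [CommRing A] [CommRing M] [Algebra A M] {ι : Type*} [Fintype ι]
  (b : ι → M) (t : ι → M →ₗ[A] A) (u : M)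

theorem flat_away_of_dual (hdual : ∀ m, u * m = ∑ k, t k m • b k) :
    Module.Flat A (Localization.Away u) := by
  classical
  rw [Module.Flat.iff_forall_isTrivialRelation]
  intro l f x hfx
  obtain ⟨⟨_, n, rfl⟩, hn⟩ := IsLocalization.exist_integer_multiples (Submonoid.powers u) Finset.univ x
  choose m hm using fun i => hn i (Finset.mem_univ i)
  have hm' : ∀ i, algebraMap M (Localization.Away u) (m i) =
      algebraMap M (Localization.Away u) (u ^ n) * x i := fun i => by
    rw [hm i]; exact Algebra.smul_def _ _
  have hsmul : ∀ (a : A) (z : M), algebraMap M (Localization.Away u) (a • z) =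
      a • algebraMap M (Localization.Away u) z := fun a z =>
    map_smul (IsScalarTower.toAlgHom A M (Localization.Away u)) a z
  have h0 : algebraMap M (Localization.Away u) (∑ i, f i • m i) = 0 := by
    rw [map_sum]
    simp only [hsmul, hm', ← mul_smul_comm, ← Finset.mul_sum, hfx, mul_zero]
  obtain ⟨⟨_, p, rfl⟩, hp⟩ := (IsLocalization.map_eq_zero_iff (Submonoid.powers u) _ _).1 h0
  dsimp only at hp hm
  have hinv : IsUnit (algebraMap M (Localization.Away u) (u ^ (n + p + 1))) := by
    rw [map_pow]; exact (IsLocalization.Away.algebraMap_isUnit u).pow _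
  obtain ⟨v, hv⟩ := hinv
  let y : ι → Localization.Away u := fun k => ↑v⁻¹ * algebraMap M (Localization.Away u) (b k)
  let e := Fintype.equivFin ι
  refine ⟨Fintype.card ι, fun i k => t (e.symm k) (u ^ p * m i), fun k => y (e.symm k),
    fun i => ?_, fun k => ?_⟩
  · rw [e.symm.sum_comp fun k => t k (u ^ p * m i) • y k]
    simp only [y, ← mul_smul_comm]
    rw [← Finset.mul_sum, eq_comm, Units.inv_mul_eq_iff_eq_mul, hv]
    simp only [← hsmul, ← map_sum, ← hdual]
    rw [map_mul, map_mul, hm' i, pow_add, pow_add, map_mul, map_mul, pow_one]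
    ring
  · have hf : ∑ i, f i • (u ^ p * m i) = 0 := by
      simp only [← mul_smul_comm, ← Finset.mul_sum]
      exact hp
    simpa only [map_sum, map_smul, smul_eq_mul, map_zero] using congrArg (t (e.symm k)) hf

theorem finitePresentation_away_of_dual (hdual : ∀ m, u * m = ∑ k, t k m • b k) :
    Algebra.FinitePresentation A (Localization.Away u) := by
  classical
  let L := Localization.Away u
  let P := MvPolynomial (Option ι) A
  let lin : M →ₗ[A] P := ∑ k, (t k).smulRight (X (some k) : P)
  have hlin : ∀ m, lin m = ∑ k, t k m • (X (some k) : P) := fun m => by simp [lin, LinearMap.sum_apply]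
  let S : Finset P := {lin 1 * X none - 1}
    ∪ Finset.univ.image (fun k => lin 1 * X (some k) - lin (b k))
    ∪ Finset.univ.image (fun p : ι × ι => X (some p.1) * X (some p.2) - X none * lin (b p.1 * b p.2))
  let J : Ideal P := Ideal.span (S : Set P)
  have hu : IsUnit (algebraMap M L u) := IsLocalization.Away.algebraMap_isUnit u
  let φ : P →ₐ[A] L :=
    MvPolynomial.aeval fun o => o.elim (↑hu.unit⁻¹ : L) fun k => algebraMap M L (b k)
  have hφk : ∀ k, φ (X (some k)) = algebraMap M L (b k) := fun k => MvPolynomial.aeval_X _ _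
  have hφn : φ (X none) = (↑hu.unit⁻¹ : L) := MvPolynomial.aeval_X _ _
  have hsmul : ∀ (a : A) (z : M), algebraMap M L (a • z) = a • algebraMap M L z := fun a z =>
    map_smul (IsScalarTower.toAlgHom A M L) a z
  have hφlin : ∀ m, φ (lin m) = algebraMap M L (u * m) := fun m => by
    rw [hlin, hdual, map_sum, map_sum]
    simp only [map_smul, hφk, hsmul]
  have hUY : φ (lin 1) * φ (X none) = 1 := by
    rw [hφlin, mul_one, hφn]; exact IsUnit.mul_val_inv _
  have hJ : J ≤ RingHom.ker φ := by
    rw [Ideal.span_le]
    intro z hz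
    simp only [S, Finset.coe_union, Finset.coe_singleton, Set.mem_union, Set.mem_singleton_iff,
      Finset.coe_image, Set.mem_image] at hz
    show φ z = 0
    rcases hz with (rfl | ⟨k, -, rfl⟩) | ⟨p, -, rfl⟩
    · rw [map_sub, map_mul, hUY, map_one, sub_self]
    · rw [map_sub, map_mul, hφlin, hφlin, hφk, mul_one, ← map_mul, sub_self]
    · rw [map_sub, map_mul, map_mul, hφlin, hφk, hφk, hφn, map_mul _ u, ← mul_assoc,
        IsUnit.val_inv_mul, one_mul, ← map_mul, sub_self]
  let ψ : (P ⧸ J) →ₐ[A] L := Ideal.Quotient.liftₐ J φ hJ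
  let q := Ideal.Quotient.mkₐ A J
  let y := q (X none)
  let L' : M →ₗ[A] (P ⧸ J) := q.toLinearMap ∘ₗ lin
  have hS : ∀ z ∈ S, q z = 0 := fun z hz => Ideal.Quotient.eq_zero_iff_mem.2 (Ideal.subset_span hz)
  have r1 : L' 1 * y = 1 := by
    have := hS _ (Finset.mem_union_left _ (Finset.mem_union_left _ (Finset.mem_singleton_self _)))
    rw [map_sub, map_mul, sub_eq_zero] at this
    exact this.trans (map_one q)
  have r2 : ∀ k, L' 1 * q (X (some k)) = L' (b k) := fun k => by
    have := hS _ (Finset.mem_union_left _ (Finset.mem_union_right _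
      (Finset.mem_image.2 ⟨k, Finset.mem_univ _, rfl⟩)))
    rwa [map_sub, map_mul, sub_eq_zero] at this
  have r3 : ∀ i j, q (X (some i)) * q (X (some j)) = y * L' (b i * b j) := fun i j => by
    have := hS _ (Finset.mem_union_right _ (Finset.mem_image.2 ⟨(i, j), Finset.mem_univ _, rfl⟩))
    rwa [map_sub, map_mul, map_mul, sub_eq_zero] at this
  have hL : ∀ m, L' m = ∑ k, t k m • q (X (some k)) := fun m => by
    show q (lin m) = _
    rw [hlin, map_sum]
    simp only [map_smul]
  have hUlin : ∀ m, L' 1 * L' m = L' (u * m) := fun m => by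
    conv_rhs => rw [hdual, map_sum]
    rw [hL m, Finset.mul_sum]
    simp only [mul_smul_comm, r2, map_smul]
  have hmul : ∀ m m', L' m * L' m' = y * L' (u * m * (u * m')) := fun m m' => by
    conv_rhs => rw [hdual m, hdual m', Finset.sum_mul_sum, map_sum, Finset.mul_sum]
    rw [hL m, hL m', Finset.sum_mul_sum]
    refine Finset.sum_congr rfl fun i _ => ?_
    rw [map_sum, Finset.mul_sum]
    refine Finset.sum_congr rfl fun j _ => ?_
    simp only [smul_mul_assoc, mul_smul_comm, map_smul, r3]
  let χ : M →ₐ[A] (P ⧸ J) := AlgHom.ofLinearMap ((LinearMap.mulLeft A y) ∘ₗ L')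
    (show y * L' 1 = 1 by rw [mul_comm]; exact r1) fun m m' => by
      show y * L' (m * m') = y * L' m * (y * L' m')
      rw [show y * L' m * (y * L' m') = y * y * (L' m * L' m') by ring, hmul,
        show u * m * (u * m') = u * (u * (m * m')) by ring, ← hUlin, ← hUlin]
      linear_combination (-y * L' (m * m') * (L' 1 * y + 1)) * r1
  have hχu : χ u = L' 1 := by
    show y * L' u = L' 1
    rw [← mul_one u, ← hUlin, ← mul_assoc, mul_comm y, r1, one_mul]
  have hunit : ∀ s : Submonoid.powers u, IsUnit (χ s) := by
    rintro ⟨_, n, rfl⟩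
    rw [map_pow, hχu]
    exact (IsUnit.of_mul_eq_one _ r1).pow n
  let χ' : L →ₐ[A] (P ⧸ J) := IsLocalization.liftAlgHom (f := χ) hunit
  have hχ' : ∀ m, χ' (algebraMap M L m) = χ m := fun m => IsLocalization.lift_eq _ m
  have h2 : χ'.comp ψ = AlgHom.id A (P ⧸ J) := by
    refine Ideal.Quotient.algHom_ext A (MvPolynomial.algHom_ext fun o => ?_)
    show χ' (φ (X o)) = q (X o)
    cases o with
    | none =>
      have : χ' (algebraMap M L u) * χ' (φ (X none)) = 1 := by
        rw [← map_mul, show algebraMap M L u = φ (lin 1) from ((hφlin 1).trans (by rw [mul_one])).symm,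
          hUY, map_one]
      rw [hχ', hχu] at this
      calc χ' (φ (X none)) = (L' 1 * y) * χ' (φ (X none)) := by rw [r1, one_mul]
        _ = y * (L' 1 * χ' (φ (X none))) := by ring
        _ = y := by rw [this, mul_one]
    | some k =>
      rw [hφk, hχ']
      show y * L' (b k) = _
      rw [← r2, ← mul_assoc, mul_comm y, r1, one_mul]
  have hψ : ∀ m, ψ (χ m) = algebraMap M L m := fun m => by
    show ψ (y * L' m) = _
    rw [map_mul]
    show φ (X none) * φ (lin m) = _
    rw [hφlin, hφn, map_mul, ← mul_assoc, IsUnit.val_inv_mul, one_mul]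
  have h1 : ψ.comp χ' = AlgHom.id A L := by
    refine AlgHom.coe_ringHom_injective (IsLocalization.ringHom_ext (Submonoid.powers u)
      (RingHom.ext fun m => ?_))
    show ψ (χ' (algebraMap M L m)) = algebraMap M L m
    rw [hχ', hψ]
  haveI : Algebra.FinitePresentation A (P ⧸ J) := Algebra.FinitePresentation.quotient ⟨S, rfl⟩
  exact Algebra.FinitePresentation.equiv (AlgEquiv.ofAlgHom ψ χ' h1 h2)

/-- A dual basis up to `u` and `u ^ 2` killing derivations give étaleness away from `u`. -/
theorem etale_away_of_dual (hdual : ∀ m, u * m = ∑ k, t k m • b k)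
    (hD : ∀ (D : Derivation A M (KaehlerDifferential A (Localization.Away u))) (m : M), u ^ 2 • D m = 0) :
    Algebra.Etale A (Localization.Away u) := by
  haveI := flat_away_of_dual b t u hdual
  haveI := finitePresentation_away_of_dual b t u hdual
  let L := Localization.Away u
  have key : ∀ c : M, KaehlerDifferential.D A L (algebraMap M L c) = 0 := fun c => by
    have h0 := hD ((KaehlerDifferential.D A L).compAlgebraMap M) c
    rw [← algebraMap_smul L (u ^ 2), map_pow] at h0
    exact ((IsLocalization.Away.algebraMap_isUnit (S := L) u).pow 2).smul_eq_zero.1 h0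
  haveI : Algebra.FormallyUnramified A L := by
    rw [Algebra.formallyUnramified_iff]
    refine subsingleton_of_forall_eq 0 fun ω => ?_
    have hω : ω ∈ Submodule.span L (Set.range (KaehlerDifferential.D A L)) := by
      rw [KaehlerDifferential.span_range_derivation]; trivial
    refine Submodule.span_induction ?_ rfl (fun a b _ _ ha hb => by rw [ha, hb, add_zero])
      (fun a b _ hb => by rw [hb, smul_zero]) hω
    rintro _ ⟨z, rfl⟩
    obtain ⟨⟨c, s⟩, hs⟩ := IsLocalization.surj (Submonoid.powers u) z
    have hd := congrArg (KaehlerDifferential.D A L) hs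
    rw [Derivation.leibniz, key, key, smul_zero, zero_add] at hd
    exact (IsLocalization.map_units L s).smul_eq_zero.1 hd
  exact Algebra.Etale.of_formallyUnramified_of_flat

end Groth.Agent.P1Inertia
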