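import Groth.Agent.P1Inertia.Basic
import Groth.Agent.IndEtLib.Sys
import Groth.Prelude.Def_PBC
import Mathlib.FieldTheory.Galois.Infinite
import Mathlib.FieldTheory.Galois.Profinite
import Mathlib.RingTheory.IntegralClosure.IntegralRestrict
import Mathlib.RingTheory.FiniteType

/-! The localized inertia invariants of an infinite Galois extension are ind-étale. -/

universe u

set_option linter.style.haveILetI false

namespace Groth.Agent.P1Inertia

variable {A K L : Type u} [CommRing A] [IsDomain A] [IsIntegrallyClosed A]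
  [Field K] [Field L] [Algebra A K] [IsFractionRing A K] [Algebra K L] [Algebra A L] [IsScalarTower A K L]
  [IsGalois K L]

theorem isOpen_setOf_smul_eq (x y : L) : IsOpen {σ : L ≃ₐ[K] L | σ x = y} := by
  rw [isOpen_iff_forall_mem_open]
  intro σ hσ
  refine ⟨(fun τ => σ⁻¹ * τ) ⁻¹' (MulAction.stabilizer (L ≃ₐ[K] L) x : Set (L ≃ₐ[K] L)),
    fun τ hτ => ?_, (stabilizer_isOpen_of_isIntegral x).preimage (continuous_const_mul σ⁻¹),
    by simp [MulAction.mem_stabilizer_iff]⟩
  have h : σ⁻¹ (τ x) = x := hτ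
  have h2 := congrArg σ h
  rw [show σ (σ⁻¹ (τ x)) = τ x from σ.apply_symm_apply _] at h2
  exact h2.trans hσ

theorem isClosed_setOf (P : L → Prop) (x : L) : IsClosed {σ : L ≃ₐ[K] L | P (σ x)} := by
  rw [← isOpen_compl_iff,
    show {σ : L ≃ₐ[K] L | P (σ x)}ᶜ = ⋃ y ∈ {y | ¬ P y}, {σ : L ≃ₐ[K] L | σ x = y} by ext σ; simp]
  exact isOpen_biUnion fun y _ => isOpen_setOf_smul_eq x y

/-- An element moved out of `q` is detected on a finite Galois subextension. -/
theorem exists_finite_separating (q : Ideal (integralClosure A L)) (I : Subgroup (L ≃ₐ[K] L))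
    (hI : ∀ σ : L ≃ₐ[K] L, σ ∈ I ↔ ∀ b : integralClosure A L, ∃ c ∈ q, (c : L) = σ b - b)
    (S : Finset L) (hS : ∀ x ∈ S, ∀ σ ∈ I, σ x = x) :
    ∃ T : Finset (integralClosure A L), ∀ σ : L ≃ₐ[K] L,
      (∀ b ∈ T, ∃ c ∈ q, (c : L) = σ b - b) → ∀ x ∈ S, σ x = x := by
  classical
  let Z : integralClosure A L → Set (L ≃ₐ[K] L) := fun b => {σ | ∃ c ∈ q, (c : L) = σ b - b}
  have hcl : IsClosed (⋃ x ∈ S, {σ : L ≃ₐ[K] L | σ x ≠ x}) :=
    S.finite_toSet.isClosed_biUnion fun x _ => isClosed_setOf (fun y => y ≠ x) x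
  obtain ⟨T, hT⟩ := hcl.isCompact.elim_finite_subfamily_closed Z
    (fun b => isClosed_setOf (fun y => ∃ c ∈ q, (c : L) = y - b) b) (by
      rw [Set.eq_empty_iff_forall_notMem]
      rintro σ ⟨h1, h2⟩
      simp only [Set.mem_iUnion, exists_prop] at h1
      obtain ⟨x, hx, hne⟩ := h1
      exact hne (hS x hx σ ((hI σ).2 fun b => Set.mem_iInter.1 h2 b)))
  refine ⟨T, fun σ hσ x hx => by_contra fun hne => ?_⟩
  exact (Set.eq_empty_iff_forall_notMem.1 hT σ) ⟨Set.mem_biUnion hx hne, Set.mem_iInter₂.2 hσ⟩

set_option maxHeartbeats 1600000 in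
theorem isIndEtale_inertiaInvariants (q : Ideal (integralClosure A L)) [q.IsPrime]
    (I : Subgroup (L ≃ₐ[K] L))
    (hI : ∀ σ : L ≃ₐ[K] L, σ ∈ I ↔ ∀ b : integralClosure A L, ∃ c ∈ q, (c : L) = σ b - b) :
    EtPBC.IsIndEtale A (Localization.AtPrime
      (q.comap (Subalgebra.inclusion
        (inf_le_left : integralClosure A L ⊓ (IntermediateField.fixedField I).toSubalgebra.restrictScalars A ≤
          integralClosure A L)))) := by
  classical
  let C := integralClosure A L ⊓ (IntermediateField.fixedField I).toSubalgebra.restrictScalars A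
  let inc : C →ₐ[A] integralClosure A L := Subalgebra.inclusion inf_le_left
  let qC : Ideal C := q.comap inc
  let Cq := Localization.AtPrime qC
  refine IndEtLib.isIndEtale_of_factor fun P _ _ _ φ => ?_
  obtain ⟨gens, hgens⟩ := (inferInstance : Algebra.FiniteType A P).out
  choose cs hcs using fun p : P => IsLocalization.surj qC.primeCompl (φ p)
  let S : Finset L := gens.image (fun p => ((cs p).1 : L)) ∪ gens.image (fun p => (((cs p).2 : C) : L))
  obtain ⟨T, hT⟩ := exists_finite_separating q I hI S (by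
    intro x hx σ hσ
    simp only [S, Finset.mem_union, Finset.mem_image] at hx
    rcases hx with ⟨p, -, rfl⟩ | ⟨p, -, rfl⟩ <;>
    exact (Subtype.prop (α := L) _ : (_ : L) ∈ C).2 ⟨σ, hσ⟩)
  let s : Set L := ↑(S ∪ T.image (fun b : integralClosure A L => (b : L)))
  haveI : Finite s := (S ∪ T.image (fun b : integralClosure A L => (b : L))).finite_toSet.to_subtype
  let E := (FiniteGaloisIntermediateField.adjoin K s).toIntermediateField
  have hsE : s ⊆ E := FiniteGaloisIntermediateField.subset_adjoin K s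
  haveI : IsScalarTower A K E := IsScalarTower.of_algebraMap_eq fun a => Subtype.ext (IsScalarTower.algebraMap_apply A K L a)
  let R := integralClosure A E
  let G := E ≃ₐ[K] E
  letI : MulSemiringAction G R := MulSemiringAction.compHom R (galRestrict A K E R).toMonoidHom
  have hsmul : ∀ (τ : G) (b : R), ((τ • b : R) : E) = τ (b : E) := fun τ b =>
    algebraMap_galRestrict_apply A τ b
  let j : R →ₐ[A] integralClosure A L :=
    AlgHom.codRestrict (((E.val).restrictScalars A).comp (integralClosure A E).val) (integralClosure A L)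
      fun b => (b.2 : IsIntegral A (b : E)).map ((E.val).restrictScalars A)
  have hj : ∀ b, ((j b : integralClosure A L) : L) = ((b : E) : L) := fun b => rfl
  let q' := q.comap j
  have hres : ∀ (σ : L ≃ₐ[K] L) (b : E),
      ((AlgEquiv.restrictNormalHom E σ b : E) : L) = σ (b : L) := fun σ b =>
    AlgEquiv.restrictNormal_commutes σ E b
  -- the inertia group on the finite level
  have hin : ∀ σ : L ≃ₐ[K] L, σ ∈ I → AlgEquiv.restrictNormalHom E σ ∈ q'.inertia G := fun σ hσ b => by
    obtain ⟨c, hc, hce⟩ := (hI σ).1 hσ (j b)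
    show j (AlgEquiv.restrictNormalHom E σ • b - b) ∈ q
    convert hc
    apply Subtype.ext
    rw [hj, hce, hj]
    simp [hsmul, hres]
  let M := FixedPoints.subring R (q'.inertia G)
  let A' := FixedPoints.subring R G
  have hfix : ∀ a : A, algebraMap A R a ∈ A' := fun a τ => Subtype.ext (by
    rw [hsmul]
    show τ (algebraMap A E a) = algebraMap A E a
    rw [IsScalarTower.algebraMap_apply A K E, τ.commutes])
  let ρ : A →+* A' := (algebraMap A R).codRestrict A' hfix
  letI : Algebra A A' := ρ.toAlgebra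
  letI : Algebra A M := ((algebraMap A' M).comp ρ).toAlgebra
  haveI : IsScalarTower A A' M := IsScalarTower.of_algebraMap_eq fun _ => rfl
  have hρ : Function.Bijective ρ := by
    refine ⟨fun a b h => ?_, fun x => ?_⟩
    · have h' : algebraMap A E a = algebraMap A E b := congrArg (fun z : A' => ((z : R) : E)) h
      rw [IsScalarTower.algebraMap_apply A K E, IsScalarTower.algebraMap_apply A K E] at h'
      exact IsFractionRing.injective A K ((algebraMap K E).injective h')
    · obtain ⟨k, hk⟩ := (IsGalois.mem_range_algebraMap_iff_fixed ((x : R) : E)).2 fun τ =>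
        (hsmul τ x).symm.trans (congrArg Subtype.val (x.2 τ))
      have hint : IsIntegral A k := (isIntegral_algHom_iff (IsScalarTower.toAlgHom A K E)
        (algebraMap K E).injective).1 (by show IsIntegral A (algebraMap K E k); rw [hk]; exact x.1.2)
      obtain ⟨a, ha⟩ := IsIntegrallyClosed.isIntegral_iff.1 hint
      refine ⟨a, Subtype.ext (Subtype.ext ?_)⟩
      show algebraMap A E a = _
      rw [IsScalarTower.algebraMap_apply A K E, ha, hk]
  haveI : Algebra.Etale A A' := Algebra.Etale.of_equiv (AlgEquiv.ofBijective (Algebra.ofId A A') hρ)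
  -- the map to `C`
  let ψ : M →ₐ[A] C :=
    { toFun := fun m => ⟨(((m : R) : E) : L), (j m).2, fun σ => by
        show (σ : L ≃ₐ[K] L) (((m : R) : E) : L) = _
        rw [← hres, ← hsmul]
        exact congrArg (fun z : R => ((z : E) : L)) (m.2 ⟨_, hin σ σ.2⟩)⟩
      map_one' := rfl
      map_mul' := fun _ _ => rfl
      map_zero' := rfl
      map_add' := fun _ _ => rfl
      commutes' := fun _ => rfl }
  have hψ : ∀ m, inc (ψ m) = j (m : R) := fun m => rfl
  have hlift : ∀ x : C, (x : L) ∈ S → ∃ m : M, ψ m = x := fun x hx => by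
    have hxE : (x : L) ∈ E := hsE (Finset.mem_coe.2 (Finset.mem_union_left _ hx))
    let r : R := ⟨⟨x, hxE⟩, (isIntegral_algHom_iff ((E.val).restrictScalars A) Subtype.val_injective).1
      (show IsIntegral A (x : L) from x.2.1)⟩
    refine ⟨⟨r, ?_⟩, Subtype.ext rfl⟩
    rintro ⟨τ, hτ⟩
    obtain ⟨σ, rfl⟩ := AlgEquiv.restrictNormalHom_surjective (E := L) τ
    apply Subtype.ext; apply Subtype.ext
    show ((((AlgEquiv.restrictNormalHom E σ) • r : R) : E) : L) = x
    rw [hsmul, hres]
    refine hT σ (fun b hb => ?_) _ hx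
    have hbE : (b : L) ∈ E := hsE (Finset.mem_coe.2 (Finset.mem_union_right _ (Finset.mem_image_of_mem _ hb)))
    let rb : R := ⟨⟨b, hbE⟩, (isIntegral_algHom_iff ((E.val).restrictScalars A) Subtype.val_injective).1 b.2⟩
    refine ⟨j (AlgEquiv.restrictNormalHom E σ • rb - rb), hτ rb, ?_⟩
    rw [hj]
    simp [hsmul, hres, rb]
  -- localize
  haveI : q'.IsPrime := inferInstanceAs (q.comap j).IsPrime
  obtain ⟨g, hg, hget⟩ := exists_etale_away (G := G) q'
  choose mn hmn using fun p : gens => hlift ((cs p).1) (Finset.mem_union_left _ (Finset.mem_image_of_mem (fun p => ((cs p).1 : L)) p.2))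
  choose md hmd using fun p : gens => hlift ((cs p).2) (Finset.mem_union_right _ (Finset.mem_image_of_mem (fun p => (((cs p).2 : C) : L)) p.2))
  let M1 := Localization.Away g
  let d : M1 := algebraMap M M1 (∏ p : gens, md p)
  let N := Localization.Away d
  haveI : Algebra.Etale A' M1 := hget
  haveI : Algebra.Etale A M1 := Algebra.Etale.comp A A' M1
  haveI : Algebra.Etale M1 N := Algebra.Etale.of_isLocalizationAway d
  haveI : Algebra.Etale A N := Algebra.Etale.comp A M1 N
  have hunit : ∀ m : M, ψ m ∉ qC → IsUnit (algebraMap C Cq (ψ m)) := fun m hm =>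
    IsLocalization.map_units Cq (⟨ψ m, hm⟩ : qC.primeCompl)
  let β1 : M1 →ₐ[A] Cq := IsLocalization.liftAlgHom (M := Submonoid.powers g)
    (f := (IsScalarTower.toAlgHom A C Cq).comp ψ) fun y => by
      obtain ⟨n, hn⟩ := y.2
      show IsUnit (algebraMap C Cq (ψ y))
      rw [← hn, map_pow, map_pow]
      exact (hunit g hg).pow n
  have hβ1 : ∀ m, β1 (algebraMap M M1 m) = algebraMap C Cq (ψ m) := fun m => IsLocalization.lift_eq _ m
  have hmdu : ∀ p, IsUnit (algebraMap C Cq (ψ (md p))) := fun p => by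
    rw [hmd]; exact IsLocalization.map_units Cq (cs p.1).2
  let β : N →ₐ[A] Cq := IsLocalization.liftAlgHom (M := Submonoid.powers d) (f := β1) fun y => by
    obtain ⟨n, hn⟩ := y.2
    rw [← hn, map_pow, hβ1, map_prod, map_prod]
    exact (IsUnit.prod_univ_iff.2 hmdu).pow n
  let ι : M →ₐ[A] N := (IsScalarTower.toAlgHom A M1 N).comp (IsScalarTower.toAlgHom A M M1)
  have hβ : ∀ m, β (ι m) = algebraMap C Cq (ψ m) := fun m =>
    (IsLocalization.lift_eq _ _).trans (hβ1 m)
  have hCinj : Function.Injective (algebraMap C Cq) :=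
    IsLocalization.injective Cq qC.primeCompl_le_nonZeroDivisors
  have hψinj : Function.Injective ψ := fun m m' h =>
    Subtype.ext (Subtype.ext (Subtype.ext (congrArg (fun z : C => (z : L)) h)))
  have hβinj : Function.Injective β := by
    have h1 : Function.Injective β1 :=
      (IsLocalization.lift_injective_iff _).2 fun a b => by
        constructor
        · intro h
          obtain ⟨c, hc⟩ := (IsLocalization.eq_iff_exists (Submonoid.powers g) M1).1 h
          have := congrArg (fun z => algebraMap C Cq (ψ z)) hc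
          obtain ⟨n, hn⟩ := c.2
          simp only [map_mul] at this
          have hu : IsUnit (algebraMap C Cq (ψ c)) := by rw [← hn, map_pow, map_pow]; exact (hunit g hg).pow n
          exact hu.mul_left_cancel this
        · intro h
          rw [hψinj (hCinj h)]
    refine (IsLocalization.lift_injective_iff _).2 fun a b => ⟨fun h => ?_, fun h => by rw [h1 h]⟩
    obtain ⟨c, hc⟩ := (IsLocalization.eq_iff_exists (Submonoid.powers d) N).1 h
    have := congrArg β1 hc
    obtain ⟨n, hn⟩ := c.2
    simp only [map_mul] at this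
    have hu : IsUnit (β1 c) := by
      rw [← hn, map_pow, hβ1, map_prod, map_prod]; exact (IsUnit.prod_univ_iff.2 hmdu).pow n
    exact hu.mul_left_cancel this
  have hgen : ∀ p : gens, φ p.1 ∈ β.range := fun p => by
    have hud : IsUnit (ι (md p)) := isUnit_of_dvd_unit
      (map_dvd ι (Finset.dvd_prod_of_mem md (Finset.mem_univ p))) (IsLocalization.Away.algebraMap_isUnit d)
    refine ⟨ι (mn p) * ↑hud.unit⁻¹, ?_⟩
    have h1 := hcs p.1
    rw [← hmn p, ← hmd p, ← hβ, ← hβ] at h1
    show β (ι (mn p) * ↑hud.unit⁻¹) = φ p.1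
    rw [map_mul, ← h1, mul_assoc, ← map_mul, IsUnit.mul_val_inv, map_one, mul_one]
  have hrange : φ.range ≤ β.range := by
    rw [← Algebra.map_top, ← hgens, AlgHom.map_adjoin, Algebra.adjoin_le_iff]
    rintro _ ⟨p, hp, rfl⟩
    exact hgen ⟨p, hp⟩
  refine ⟨N, inferInstance, inferInstance, inferInstance,
    (AlgEquiv.ofInjective β hβinj).symm.toAlgHom.comp
      (φ.codRestrict β.range fun p => hrange ⟨p, rfl⟩), β, AlgHom.ext fun p => ?_⟩
  exact congrArg Subtype.val ((AlgEquiv.ofInjective β hβinj).apply_symm_apply ⟨φ p, hrange ⟨p, rfl⟩⟩)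

end Groth.Agent.P1Inertia
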